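import Groth.Prelude.Def_ModSite
import Mathlib.Algebra.Category.ModuleCat.ChangeOfRings
import Mathlib.Algebra.Category.ModuleCat.Descent
import Mathlib.Algebra.Category.ModuleCat.Presheaf.Colimits
import Mathlib.Algebra.Category.ModuleCat.Presheaf.Limits
import Mathlib.CategoryTheory.Sites.SheafOfTypes

/-!
# Modules on a site all whose covering sieves are maximal: base change maps
-/

set_option linter.style.haveILetI false
set_option backward.isDefEq.respectTransparency false
set_option backward.isDefEq.respectTransparency.types false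

universe u

open CategoryTheory Limits Opposite

noncomputable section

namespace Groth.Agent.ChaoticQC

section

variable {D : Type*} [Category D] {E : Type*} [Category E] {K : Type*} [Category K]

/-- A natural transformation between colimit preserving functors that is invertible on a diagram is invertible
at its colimit. -/
theorem isIso_app_of_isColimit {F G : D ⥤ E} (τ : F ⟶ G) {X : K ⥤ D} {c : Cocone X} (hc : IsColimit c)
    [PreservesColimit X F] [PreservesColimit X G] [∀ k, IsIso (τ.app (X.obj k))] :
    IsIso (τ.app c.pt) := by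
  have : IsIso (Functor.whiskerLeft X τ) := by
    haveI : ∀ k, IsIso ((Functor.whiskerLeft X τ).app k) := fun k => by
      dsimp; infer_instance
    exact NatIso.isIso_of_isIso_app _
  let e := (isColimitOfPreserves F hc).coconePointsIsoOfNatIso (isColimitOfPreserves G hc)
    (asIso (Functor.whiskerLeft X τ))
  have h : τ.app c.pt = e.hom := by
    refine (isColimitOfPreserves F hc).hom_ext fun k => ?_
    refine (τ.naturality (c.ι.app k)).trans ?_
    exact ((isColimitOfPreserves F hc).comp_coconePointsIsoOfNatIso_hom (isColimitOfPreserves G hc)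
      (asIso (Functor.whiskerLeft X τ)) k).symm
  rw [h]; infer_instance

/-- A natural transformation between limit preserving functors that is invertible on a diagram is invertible
at its limit. -/
theorem isIso_app_of_isLimit {F G : D ⥤ E} (τ : F ⟶ G) {X : K ⥤ D} {c : Cone X} (hc : IsLimit c)
    [PreservesLimit X F] [PreservesLimit X G] [∀ k, IsIso (τ.app (X.obj k))] :
    IsIso (τ.app c.pt) := by
  have : IsIso (Functor.whiskerLeft X τ) := by
    haveI : ∀ k, IsIso ((Functor.whiskerLeft X τ).app k) := fun k => by
      dsimp; infer_instance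
    exact NatIso.isIso_of_isIso_app _
  let e := (isLimitOfPreserves F hc).conePointsIsoOfNatIso (isLimitOfPreserves G hc)
    (asIso (Functor.whiskerLeft X τ))
  have h : τ.app c.pt = e.hom := by
    refine (isLimitOfPreserves G hc).hom_ext fun k => ?_
    refine (τ.naturality (c.π.app k)).symm.trans ?_
    exact ((isLimitOfPreserves F hc).conePointsIsoOfNatIso_hom_comp (isLimitOfPreserves G hc)
      (asIso (Functor.whiskerLeft X τ)) k).symm
  rw [h]; infer_instance

end

variable {C : Type u} [SmallCategory C] {J : GrothendieckTopology C} (O : Sheaf J CommRingCat.{u})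

/-- On a site with only maximal covering sieves every presheaf of modules is a sheaf. -/
theorem isEquivalence_forget (hJ : J = ⊥) :
    (SheafOfModules.forget.{u} (ModSite.ringSh O)).IsEquivalence := by
  haveI : (SheafOfModules.forget.{u} (ModSite.ringSh O)).EssSurj := ⟨fun P =>
    ⟨{ val := P
       isSheaf := fun E => by subst hJ; exact Presieve.isSheaf_bot }, ⟨Iso.refl _⟩⟩⟩
  exact {}

/-- Sections over `V` as a functor to modules over `O(V)`. -/
abbrev evC (V : C) : ModSite.Mod O ⥤ ModuleCat.{u} (O.obj.obj (op V)) :=
  SheafOfModules.evaluation.{u} (ModSite.ringSh O) (op V)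

theorem preservesColimits_evC (hJ : J = ⊥) (V : C) :
    PreservesColimitsOfSize.{u, u} (evC O V) := by
  haveI := isEquivalence_forget O hJ
  exact inferInstanceAs (PreservesColimitsOfSize.{u, u}
    (SheafOfModules.forget.{u} (ModSite.ringSh O) ⋙ PresheafOfModules.evaluation _ (op V)))

theorem preservesFiniteColimits_evC (hJ : J = ⊥) (V : C) :
    PreservesFiniteColimits (evC O V) := by
  haveI := preservesColimits_evC O hJ V
  exact PreservesColimitsOfSize.preservesFiniteColimits _

theorem preservesFiniteLimits_evC (hJ : J = ⊥) (V : C) :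
    PreservesFiniteLimits (evC O V) := by
  haveI := isEquivalence_forget O hJ
  exact inferInstanceAs (PreservesFiniteLimits
    (SheafOfModules.forget.{u} (ModSite.ringSh O) ⋙ PresheafOfModules.evaluation _ (op V)))

/-- The base change map `F(V) ⊗ O(U) ⟶ F(U)`. -/
abbrev bc (F : ModSite.Mod O) {U V : C} (g : U ⟶ V) :
    (ModuleCat.extendScalars (O.obj.map g.op).hom).obj ((evC O V).obj F) ⟶ (evC O U).obj F :=
  ((ModuleCat.extendRestrictScalarsAdj (O.obj.map g.op).hom).homEquiv
    (F.val.obj (op V) : ModuleCat.{u} (O.obj.obj (op V)))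
    (F.val.obj (op U) : ModuleCat.{u} (O.obj.obj (op U)))).symm (F.val.map g.op)

/-- The base change maps as a natural transformation. -/
def bcNat {U V : C} (g : U ⟶ V) :
    evC O V ⋙ ModuleCat.extendScalars (O.obj.map g.op).hom ⟶ evC O U where
  app F := bc O F g
  naturality F G φ := by
    refine ((ModuleCat.extendRestrictScalarsAdj _).homEquiv_naturality_left_symm _ _).symm.trans ?_
    refine Eq.trans ?_ ((ModuleCat.extendRestrictScalarsAdj _).homEquiv_naturality_right_symm _ _)
    exact congrArg _ (φ.val.naturality g.op).symm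

/-- All base change maps of `F` are invertible. -/
def HasBC (F : ModSite.Mod O) : Prop :=
  ∀ (U V : C) (g : U ⟶ V), IsIso (bc O F g)

theorem HasBC.of_isColimit {K : Type*} [Category K] {X : K ⥤ ModSite.Mod O}
    [∀ V, PreservesColimit X (evC O V)] {c : Cocone X} (hc : IsColimit c)
    (h : ∀ k, HasBC O (X.obj k))
    [∀ (U V : C) (g : U ⟶ V),
      PreservesColimit (X ⋙ evC O V) (ModuleCat.extendScalars.{u, u, u} (O.obj.map g.op).hom)] :
    HasBC O c.pt := fun U V g => by
  haveI : ∀ k, IsIso ((bcNat O g).app (X.obj k)) := fun k => h k U V g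
  exact isIso_app_of_isColimit (bcNat O g) hc

theorem bc_tmul (F : ModSite.Mod O) {U V : C} (g : U ⟶ V) (s : O.obj.obj (op U))
    (m : F.val.obj (op V)) :
    letI : Module (O.obj.obj (op V)) (O.obj.obj (op U)) := Module.compHom _ (O.obj.map g.op).hom
    (bc O F g).hom (TensorProduct.tmul (O.obj.obj (op V)) s m) =
      (show (ModSite.ringSh O).obj.obj (op U) from s) • (show F.val.obj (op U) from F.val.map g.op m) :=
  rfl

theorem hasBC_unit : HasBC O (SheafOfModules.unit.{u} (ModSite.ringSh O)) := fun U V g => by
  letI : Module (O.obj.obj (op V)) (O.obj.obj (op U)) := Module.compHom _ (O.obj.map g.op).hom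
  rw [ConcreteCategory.isIso_iff_bijective]
  let F := SheafOfModules.unit.{u} (ModSite.ringSh O)
  have key : ∀ x : O.obj.obj (op U),
      (bc O F g).hom (TensorProduct.tmul (O.obj.obj (op V)) x (1 : O.obj.obj (op V))) = x := fun x => by
    refine (bc_tmul O F g x (1 : O.obj.obj (op V))).trans ?_
    show x * (O.obj.map g.op).hom 1 = x
    rw [map_one, mul_one]
  have surj : ∀ z : TensorProduct (O.obj.obj (op V)) (O.obj.obj (op U)) (O.obj.obj (op V)),
      ∃ x, z = TensorProduct.tmul (O.obj.obj (op V)) x (1 : O.obj.obj (op V)) := fun z => by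
    induction z using TensorProduct.induction_on with
    | zero => exact ⟨0, (TensorProduct.zero_tmul _ _).symm⟩
    | tmul s r =>
      refine ⟨r • s, ?_⟩
      rw [TensorProduct.smul_tmul, smul_eq_mul, mul_one]
    | add a b ha hb =>
      obtain ⟨x, rfl⟩ := ha
      obtain ⟨y, rfl⟩ := hb
      exact ⟨x + y, (TensorProduct.add_tmul _ _ _).symm⟩
  refine ⟨fun z z' h => ?_, fun x => ⟨_, key x⟩⟩
  obtain ⟨x, rfl⟩ := surj z
  obtain ⟨y, rfl⟩ := surj z'
  exact congrArg (fun w => TensorProduct.tmul (O.obj.obj (op V)) w (1 : O.obj.obj (op V)))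
    ((key x).symm.trans (h.trans (key y)))

theorem HasBC.of_iso {F G : ModSite.Mod O} (e : F ≅ G) (h : HasBC O F) : HasBC O G := fun U V g => by
  haveI : IsIso ((bcNat O g).app F) := h U V g
  exact (NatTrans.isIso_app_iff_of_iso (bcNat O g) e).mp inferInstance

end Groth.Agent.ChaoticQC
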