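import Groth.Agent.ChaoticQC.Basic
import Mathlib.Algebra.Category.ModuleCat.Sheaf.Quasicoherent
import Mathlib.Algebra.Homology.ShortComplex.ShortExact

/-!
# Quasi-coherent modules for the chaotic topology
-/

set_option linter.style.haveILetI false
set_option backward.isDefEq.respectTransparency false
set_option backward.isDefEq.respectTransparency.types false

universe u

open CategoryTheory Limits Opposite

noncomputable section

namespace Groth.Agent.ChaoticQC

variable {C : Type u} [SmallCategory C] {J : GrothendieckTopology C} (O : Sheaf J CommRingCat.{u})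

theorem over_eq_bot (hJ : J = ⊥) (X : C) : J.over X = ⊥ := by
  ext Y S
  subst hJ
  show Sieve.overEquiv Y S ∈ (⊥ : GrothendieckTopology C) Y.left ↔ S ∈ (⊥ : GrothendieckTopology (Over X)) Y
  rw [GrothendieckTopology.bot_covering, GrothendieckTopology.bot_covering]
  exact map_eq_top_iff (f := Sieve.overEquiv Y)

theorem hasBC_free (hJ : J = ⊥) (I : Type u) :
    HasBC O (SheafOfModules.free.{u} (R := ModSite.ringSh O) I) := by
  haveI := fun V => preservesColimits_evC O hJ V
  exact HasBC.of_isColimit O (c := SheafOfModules.freeCofan I) (SheafOfModules.isColimitFreeCofan I)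
    fun _ => hasBC_unit O

theorem hasBC_cokernel (hJ : J = ⊥) {F G : ModSite.Mod O} (α : F ⟶ G) (hF : HasBC O F)
    (hG : HasBC O G) {c : CokernelCofork α} (hc : IsColimit c) : HasBC O c.pt := by
  haveI := fun V => preservesFiniteColimits_evC O hJ V
  exact HasBC.of_isColimit O hc fun k => match k with
    | .zero => hF
    | .one => hG

theorem hasBC_of_presentation (hJ : J = ⊥) {M : ModSite.Mod O}
    (P : SheafOfModules.Presentation.{u} (R := ModSite.ringSh O) M) : HasBC O M :=
  hasBC_cokernel O hJ ((SheafOfModules.freeHomEquiv (R := ModSite.ringSh O) _).symm P.relations.s ≫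
      kernel.ι (SheafOfModules.GeneratingSections.π P.generators))
    (hasBC_free O hJ P.relations.I) (hasBC_free O hJ P.generators.I)
    (c := CokernelCofork.ofπ (SheafOfModules.GeneratingSections.π P.generators)
      (by rw [Category.assoc, kernel.condition, comp_zero]))
    (SheafOfModules.Presentation.isColimit P)

/-- Elements over a terminal object are sections. -/
def secOfTop {T : C} (hT : IsTerminal T) (M : ModSite.Mod O) (m : M.val.obj (op T)) :
    SheafOfModules.sections (R := ModSite.ringSh O) M :=
  PresheafOfModules.sectionsMk (fun X => M.val.map (hT.from X.unop).op m) fun X Y f => by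
    refine (PresheafOfModules.map_comp_apply M.val _ f m).symm.trans ?_
    have h : (hT.from X.unop).op ≫ f = (hT.from Y.unop).op :=
      Quiver.Hom.unop_inj (hT.hom_ext _ _)
    exact congrArg (fun k : op T ⟶ Y => M.val.map k m) h

theorem secOfTop_eval {T : C} (hT : IsTerminal T) (M : ModSite.Mod O) (m : M.val.obj (op T)) :
    (secOfTop O hT M m).val (op T) = m := by
  refine Eq.trans ?_ (M.val.congr_map_apply (f := 𝟙 (op T)) rfl m |>.trans
    (ConcreteCategory.congr_hom (M.val.map_id (op T)) m))
  exact congrArg (fun k => M.val.map k m) (Quiver.Hom.unop_inj (hT.hom_ext _ _))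

theorem app_freeHomEquiv_symm {T : C} (M : ModSite.Mod O) {I : Type u}
    (s : I → SheafOfModules.sections (R := ModSite.ringSh O) M) (i : I) :
    ((SheafOfModules.freeHomEquiv (R := ModSite.ringSh O) M).symm s).val.app (op T)
      ((SheafOfModules.freeSection (R := ModSite.ringSh O) i).val (op T)) = (s i).val (op T) :=
  congrArg (fun t => t.val (op T)) (SheafOfModules.sectionsMap_freeHomEquiv_symm_freeSection s i)

/-- A module with invertible base change maps on a site with a terminal object has a presentation. -/
theorem nonempty_presentation (hJ : J = ⊥) {T : C} (hT : IsTerminal T) (M : ModSite.Mod O)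
    (hM : HasBC O M) : Nonempty (SheafOfModules.Presentation.{u} (R := ModSite.ringSh O) M) := by
  let π : SheafOfModules.free.{u} (R := ModSite.ringSh O) (M.val.obj (op T)) ⟶ M :=
    (SheafOfModules.freeHomEquiv (R := ModSite.ringSh O) M).symm (secOfTop O hT M)
  let G : ModSite.Mod O := SheafOfModules.free.{u} (R := ModSite.ringSh O) (M.val.obj (op T))
  let Z : Type u := {x : G.val.obj (op T) // π.val.app (op T) x = 0}
  let f : SheafOfModules.free.{u} (R := ModSite.ringSh O) Z ⟶ G :=
    (SheafOfModules.freeHomEquiv (R := ModSite.ringSh O) G).symm fun z => secOfTop O hT G z.1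
  have hf : f ≫ π = 0 := by
    apply (SheafOfModules.freeHomEquiv (R := ModSite.ringSh O) M).injective
    funext z
    refine Subtype.ext (funext fun X => ?_)
    have h1 : ∀ q : SheafOfModules.free.{u} (R := ModSite.ringSh O) Z ⟶ M,
        (SheafOfModules.freeHomEquiv (R := ModSite.ringSh O) M q z).val X =
          q.val.app X ((SheafOfModules.freeSection (R := ModSite.ringSh O) z).val X) := fun q =>
      congrArg (fun t => t.val X) (SheafOfModules.freeHomEquiv_apply q z)
    refine (h1 _).trans (Eq.trans ?_ (h1 _).symm)
    show π.val.app X (f.val.app X ((SheafOfModules.freeSection (R := ModSite.ringSh O) z).val X)) = 0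
    obtain ⟨Y⟩ := X
    rw [app_freeHomEquiv_symm O (T := Y) G (fun z : Z => secOfTop O hT G z.1) z]
    show π.val.app (op Y) (G.val.map (hT.from Y).op z.1) = 0
    refine (PresheafOfModules.naturality_apply π.val (hT.from Y).op z.1).trans ?_
    rw [z.2]
    exact map_zero _
  let c := CokernelCofork.ofπ (f := f) (cokernel.π f) (cokernel.condition f)
  have hc : IsColimit c := cokernelIsCokernel f
  have hQ : HasBC O c.pt := hasBC_cokernel O hJ f (hasBC_free O hJ _) (hasBC_free O hJ _) hc
  let φ : cokernel f ⟶ M := cokernel.desc f π hf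
  have hT' : IsIso ((evC O T).map φ) := by
    rw [ConcreteCategory.isIso_iff_bijective]
    have hπ : ∀ x, φ.val.app (op T) ((cokernel.π f).val.app (op T) x) = π.val.app (op T) x :=
      fun x => ConcreteCategory.congr_hom
        (congrArg (fun q => (evC O T).map q) (cokernel.π_desc f π hf)) x
    have hsurj : Function.Surjective ((evC O T).map (cokernel.π f)) := by
      haveI := preservesFiniteColimits_evC O hJ T
      exact (ModuleCat.epi_iff_surjective _).mp inferInstance
    refine ⟨fun a b hab => ?_, fun m => ?_⟩
    · obtain ⟨x, rfl⟩ := hsurj a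
      obtain ⟨y, rfl⟩ := hsurj b
      have hxy : π.val.app (op T) (x - y) = 0 := by
        refine (map_sub _ _ _).trans (sub_eq_zero.mpr ?_)
        exact (hπ x).symm.trans (hab.trans (hπ y))
      have hz : f.val.app (op T) ((SheafOfModules.freeSection (R := ModSite.ringSh O)
          (⟨x - y, hxy⟩ : Z)).val (op T)) = x - y :=
        (app_freeHomEquiv_symm O (T := T) G (fun z : Z => secOfTop O hT G z.1) ⟨x - y, hxy⟩).trans
          (secOfTop_eval O hT G _)
      refine sub_eq_zero.mp ((map_sub _ _ _).symm.trans ?_)
      refine Eq.trans (congrArg _ hz.symm) ?_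
      exact ConcreteCategory.congr_hom
        (congrArg (fun q => (evC O T).map q) (cokernel.condition f)) _
    · refine ⟨(cokernel.π f).val.app (op T)
        ((SheafOfModules.freeSection (R := ModSite.ringSh O) m).val (op T)), ?_⟩
      exact (hπ _).trans ((app_freeHomEquiv_symm O (T := T) M _ m).trans (secOfTop_eval O hT M m))
  have hφ : ∀ U : C, IsIso ((evC O U).map φ) := fun U => by
    haveI := hT'
    haveI : IsIso ((bcNat O (hT.from U)).app (cokernel f)) := hQ U T (hT.from U)
    haveI : IsIso ((bcNat O (hT.from U)).app M) := hM U T (hT.from U)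
    haveI : IsIso ((evC O T ⋙ ModuleCat.extendScalars (O.obj.map (hT.from U).op).hom).map φ) :=
      inferInstanceAs (IsIso ((ModuleCat.extendScalars (O.obj.map (hT.from U).op).hom).map
        ((evC O T).map φ)))
    haveI : IsIso ((bcNat O (hT.from U)).app (cokernel f) ≫ (evC O U).map φ) := by
      rw [← (bcNat O (hT.from U)).naturality φ]
      exact IsIso.comp_isIso
    exact IsIso.of_isIso_comp_left ((bcNat O (hT.from U)).app (cokernel f)) _
  haveI : ∀ X : Cᵒᵖ, IsIso (φ.val.app X) := fun X => hφ X.unop
  haveI : IsIso φ.val := by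
    refine (isIso_iff_of_reflects_iso φ.val (PresheafOfModules.toPresheaf _)).mp ?_
    refine (NatTrans.isIso_iff_isIso_app _).mpr fun X => ?_
    exact inferInstanceAs (IsIso ((forget₂ (ModuleCat _) AddCommGrpCat).map (φ.val.app X)))
  haveI : IsIso φ :=
    (isIso_iff_of_reflects_iso φ (SheafOfModules.forget.{u} (ModSite.ringSh O))).mp ‹_›
  exact ⟨(SheafOfModules.presentationOfIsCokernelFree (R := ModSite.ringSh O) f (cokernel.π f)
    (cokernel.condition f) hc).ofIsIso φ⟩

/-- Quasi-coherence for the chaotic topology. -/
theorem isQuasicoherent_iff (hJ : J = ⊥) (F : ModSite.Mod O) :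
    SheafOfModules.IsQuasicoherent (R := ModSite.ringSh O) F ↔ HasBC O F := by
  constructor
  · intro h U V g
    obtain ⟨q⟩ := h.nonempty_quasicoherentData
    obtain ⟨i, ⟨h⟩⟩ : ∃ i, Nonempty (V ⟶ q.X i) := by
      have h1 : Sieve.ofObjects q.X V ∈ J V := q.coversTop V
      subst hJ
      rw [GrothendieckTopology.bot_covering] at h1
      exact (Sieve.mem_ofObjects_iff _ (𝟙 V)).mp (h1 ▸ trivial)
    exact hasBC_of_presentation (O.over (q.X i)) (over_eq_bot hJ _) (M := F.over (q.X i))
      (q.presentation i) (Over.mk (g ≫ h)) (Over.mk h) (Over.homMk g)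
  · intro h
    have hP : ∀ X : C, Nonempty (SheafOfModules.Presentation.{u} (F.over X)) := fun X =>
      nonempty_presentation (O.over X) (over_eq_bot hJ _) Over.mkIdTerminal (F.over X)
        fun U V g => h U.left V.left g.left
    exact ({
      I := C
      X := id
      coversTop := fun Y => by
        have : Sieve.ofObjects (id : C → C) Y = ⊤ :=
          Sieve.ext fun Z k => iff_of_true ((Sieve.mem_ofObjects_iff _ k).mpr ⟨Z, ⟨𝟙 Z⟩⟩) trivial
        rw [this]; exact J.top_mem Y
      presentation := fun X => (hP X).some } : SheafOfModules.QuasicoherentData.{u} (R := ModSite.ringSh O) F).isQuasicoherent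

theorem hasBC_kernel (hJ : J = ⊥) (hO : ∀ (U V : C) (g : U ⟶ V), (O.obj.map g.op).hom.Flat)
    {F G : ModSite.Mod O} (α : F ⟶ G) (hF : HasBC O F) (hG : HasBC O G) :
    HasBC O (kernel α) := fun U V g => by
  haveI := fun V => preservesFiniteLimits_evC O hJ V
  haveI := ModuleCat.preservesFiniteLimits_extendScalars_of_flat (hO U V g)
  haveI : ∀ k, IsIso ((bcNat O g).app ((parallelPair α 0).obj k)) := fun k => match k with
    | .zero => hF U V g
    | .one => hG U V g
  exact isIso_app_of_isLimit (bcNat O g) (limit.isLimit (parallelPair α 0))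

theorem hasBC_extension (hJ : J = ⊥) (hO : ∀ (U V : C) (g : U ⟶ V), (O.obj.map g.op).hom.Flat)
    (S : ShortComplex (ModSite.Mod O)) (hS : S.ShortExact) (h₁ : HasBC O S.X₁)
    (h₃ : HasBC O S.X₃) : HasBC O S.X₂ := fun U V g => by
  haveI := fun V => preservesFiniteColimits_evC O hJ V
  haveI := fun V => preservesFiniteLimits_evC O hJ V
  haveI := ModuleCat.preservesFiniteLimits_extendScalars_of_flat (hO U V g)
  haveI : PreservesFiniteColimits (ModuleCat.extendScalars.{u, u, u} (O.obj.map g.op).hom) :=
    PreservesColimitsOfSize.preservesFiniteColimits.{u, u} _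
  haveI : (evC O V ⋙ ModuleCat.extendScalars.{u, u, u} (O.obj.map g.op).hom).Additive :=
    Functor.additive_of_preserves_binary_products _
  haveI : (evC O U).Additive := Functor.additive_of_preserves_binary_products _
  haveI : IsIso (S.mapNatTrans (bcNat O g)).τ₁ := h₁ U V g
  haveI : IsIso (S.mapNatTrans (bcNat O g)).τ₃ := h₃ U V g
  exact ShortComplex.isIso₂_of_shortExact_of_isIso₁₃ (S.mapNatTrans (bcNat O g))
    (hS.map_of_exact _) (hS.map_of_exact _)

end Groth.Agent.ChaoticQC
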